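import Mathlib
import Cfsg.Agent.Prune
set_option linter.all false
prune_inst 0x7f00000000000000000000000000000000000000000000000000000000000000000000000000000000000000000000000000000000000000000000000000000000000000000000000000000000000000003fffffffffffffffffffffffffffbeffbdffffffff
open scoped Cfsg.Agent.FastGrp

/-!
# Integral matrices of finite order (helper473)

* `exists_cyclo` : a monic integral polynomial whose roots are roots of unity is a product of cyclotomic polynomials;
* `exists_mult` : for `θ` an endomorphism of finite order of `ℤ^l`, there is a multiset `m` with `∑ φ(d) = l` such that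
  every prime dividing `det (q - θ)` divides some `Φ_d(q)`, `d ∈ m`;
* `dvd_charpoly` : a multiplicative character of prime order `s` with `χ (θ x) = χ x ^ q` forces `s ∣ det (q - θ)`.
-/

set_option autoImplicit false
set_option linter.unusedSectionVars false

namespace Cfsg.Agent.H473.Ab.Cyclo

open Polynomial

theorem exists_cyclo : ∀ (N : ℕ) {P : ℤ[X]}, P.natDegree = N → P.Monic → ∀ {n : ℕ}, 0 < n →
    (∀ z : ℂ, aeval z P = 0 → z ^ n = 1) →
    ∃ m : Multiset ℕ, (∀ d ∈ m, 0 < d) ∧ P = (m.map fun d => cyclotomic d ℤ).prod := by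
  intro N
  induction N using Nat.strong_induction_on with
  | _ N ih =>
    intro P hN hP n hn h
    by_cases h0 : N = 0
    · refine ⟨0, by simp, ?_⟩
      rw [Multiset.map_zero, Multiset.prod_zero]
      exact hP.natDegree_eq_zero.1 (hN.trans h0)
    · have hdeg : (P.map (algebraMap ℤ ℂ)).degree ≠ 0 := by
        rw [hP.degree_map, degree_eq_natDegree hP.ne_zero, hN]
        exact_mod_cast h0
      obtain ⟨z, hz⟩ := IsAlgClosed.exists_root _ hdeg
      have hz' : aeval z P = 0 := by
        rw [IsRoot, eval_map_algebraMap] at hz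
        exact hz
      have hzn := h z hz'
      have hprim : IsPrimitiveRoot z (orderOf z) := IsPrimitiveRoot.orderOf z
      have hpos : 0 < orderOf z := orderOf_pos_iff.2 (isOfFinOrder_iff_pow_eq_one.2 ⟨n, hn, hzn⟩)
      have hint : IsIntegral ℤ z := hprim.isIntegral hpos
      have hdvd : cyclotomic (orderOf z) ℤ ∣ P := by
        rw [cyclotomic_eq_minpoly hprim hpos]
        exact minpoly.isIntegrallyClosed_dvd hint hz'
      obtain ⟨Q, hQ⟩ := hdvd
      have hcm : (cyclotomic (orderOf z) ℤ).Monic := cyclotomic.monic _ _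
      have hQm : Q.Monic := by
        rw [hQ] at hP
        exact hcm.of_mul_monic_left hP
      have hdegQ : Q.natDegree < N := by
        have h1 := hcm.natDegree_mul hQm
        rw [← hQ, hN, natDegree_cyclotomic] at h1
        have h2 := Nat.totient_pos.2 hpos
        omega
      obtain ⟨m, hm1, hm2⟩ := ih _ hdegQ rfl hQm hn (fun y hy => h y (by rw [hQ, map_mul, hy, mul_zero]))
      refine ⟨orderOf z ::ₘ m, ?_, ?_⟩
      · intro d hd
        rcases Multiset.mem_cons.1 hd with rfl | hd
        · exact hpos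
        · exact hm1 d hd
      · rw [Multiset.map_cons, Multiset.prod_cons, ← hm2]
        exact hQ

theorem natDegree_prod {m : Multiset ℕ} : ((m.map fun d => cyclotomic d ℤ).prod).natDegree = (m.map Nat.totient).sum := by
  rw [natDegree_multiset_prod_of_monic]
  · rw [Multiset.map_map]
    congr 1
    exact Multiset.map_congr rfl fun d _ => by rw [Function.comp_apply, natDegree_cyclotomic]
  · intro f hf
    obtain ⟨d, -, rfl⟩ := Multiset.mem_map.1 hf
    exact cyclotomic.monic _ _

/-- **Endomorphisms of finite order.** -/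
theorem exists_mult {l : ℕ} {A : Matrix (Fin l) (Fin l) ℤ} {n : ℕ} (hn : 0 < n) (hA : A ^ n = 1) :
    ∃ m : Multiset ℕ, (∀ d ∈ m, 0 < d) ∧ (m.map Nat.totient).sum = l ∧
      A.charpoly = (m.map fun d => cyclotomic d ℤ).prod := by
  obtain ⟨m, h1, h2⟩ := exists_cyclo _ (P := A.charpoly) rfl (Matrix.charpoly_monic A) hn (fun z hz => by
    -- an eigenvalue of a matrix of finite order
    have h3 : (A.map (algebraMap ℤ ℂ)).charpoly.eval z = 0 := by
      rw [Matrix.charpoly_map, eval_map_algebraMap]
      exact hz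
    rw [Matrix.eval_charpoly] at h3
    obtain ⟨v, hv0, hv⟩ := Matrix.exists_mulVec_eq_zero_iff.2 h3
    have h4 : (A.map (algebraMap ℤ ℂ)).mulVec v = z • v := by
      rw [Matrix.sub_mulVec, sub_eq_zero] at hv
      rw [← hv]
      simp
    have h5 : ∀ j : ℕ, ((A.map (algebraMap ℤ ℂ)) ^ j).mulVec v = z ^ j • v := by
      intro j
      induction j with
      | zero => simp
      | succ j ih => rw [pow_succ, ← Matrix.mulVec_mulVec, h4, Matrix.mulVec_smul, ih, smul_smul, pow_succ, mul_comm]
    have h6 := h5 n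
    have h7 : (A.map (algebraMap ℤ ℂ)) ^ n = 1 := by
      have h8 := congrArg (fun B : Matrix (Fin l) (Fin l) ℤ => B.map (algebraMap ℤ ℂ)) hA
      rw [← RingHom.mapMatrix_apply, ← map_pow, hA, map_one]
    rw [h7, Matrix.one_mulVec] at h6
    obtain ⟨i, hi⟩ := Function.ne_iff.1 hv0
    have h9 := congrFun h6 i
    rw [Pi.smul_apply, smul_eq_mul] at h9
    exact (mul_right_cancel₀ hi (by rw [one_mul]; exact h9)).symm)
  refine ⟨m, h1, ?_, h2⟩
  rw [← natDegree_prod, ← h2, Matrix.charpoly_natDegree_eq_dim, Fintype.card_fin]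

theorem exists_of_dvd_prod {s : ℕ} (hs : s.Prime) {q : ℤ} : ∀ {m : Multiset ℕ},
    (s : ℤ) ∣ ((m.map fun d => cyclotomic d ℤ).prod).eval q → ∃ d ∈ m, (s : ℤ) ∣ (cyclotomic d ℤ).eval q := by
  intro m
  induction m using Multiset.induction_on with
  | empty =>
    intro h
    rw [Multiset.map_zero, Multiset.prod_zero, eval_one] at h
    have h1 : s ∣ 1 := Int.natCast_dvd_natCast.1 (by exact_mod_cast h)
    exact absurd (Nat.dvd_one.1 h1) hs.one_lt.ne'
  | cons a m ih =>
    intro h
    rw [Multiset.map_cons, Multiset.prod_cons, eval_mul] at h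
    rcases (Nat.prime_iff_prime_int.1 hs).dvd_or_dvd h with h | h
    · exact ⟨a, Multiset.mem_cons_self _ _, h⟩
    · obtain ⟨d, hd, h1⟩ := ih h
      exact ⟨d, Multiset.mem_cons_of_mem hd, h1⟩

/-- **A character of prime order.** -/
theorem dvd_charpoly {l : ℕ} {k : Type*} [Field k] (A : Matrix (Fin l) (Fin l) ℤ) {φ : (Fin l → ℤ) → k}
    (h0 : φ 0 = 1) (hadd : ∀ x y, φ (x + y) = φ x * φ y) {q : ℕ} (hq : ∀ x, φ (A.mulVec x) = φ x ^ q) {s : ℕ}
    (hs : s.Prime) (hφs : ∀ x, φ x ^ s = 1) {x : Fin l → ℤ} (hx : φ x ≠ 1) : (s : ℤ) ∣ A.charpoly.eval (q : ℤ) := by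
  have : Fact s.Prime := ⟨hs⟩
  have hne : ∀ x, φ x ≠ 0 := fun x h => by
    have h1 := hφs x
    rw [h, zero_pow hs.ne_zero] at h1
    exact zero_ne_one h1
  -- `φ` as a homomorphism
  let f : Multiplicative (Fin l → ℤ) →* kˣ :=
    { toFun := fun x => Units.mk0 (φ x.toAdd) (hne _)
      map_one' := Units.ext h0
      map_mul' := fun x y => Units.ext (hadd _ _) }
  have hf : ∀ x, ((f (Multiplicative.ofAdd x) : kˣ) : k) = φ x := fun x => rfl
  have hz : ∀ (n : ℤ) (x : Fin l → ℤ), φ (n • x) = φ x ^ n := by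
    intro n x
    have h1 : f (Multiplicative.ofAdd (n • x)) = f (Multiplicative.ofAdd x) ^ n := by
      rw [ofAdd_zsmul, map_zpow]
    have h2 := congrArg Units.val h1
    rw [Units.val_zpow_eq_zpow_val] at h2
    exact h2
  -- the image of `q - A` lies in the kernel
  set B := Matrix.scalar (Fin l) (q : ℤ) - A with hB
  have hker : ∀ y : Fin l → ℤ, φ (B.mulVec y) = 1 := by
    intro y
    have h1 : B.mulVec y = (q : ℤ) • y + (-1 : ℤ) • A.mulVec y := by
      rw [hB, Matrix.sub_mulVec]
      simp [sub_eq_add_neg]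
    rw [h1, hadd, hz, hz, hq, zpow_natCast, zpow_neg_one]
    exact mul_inv_cancel₀ (pow_ne_zero _ (hne y))
  have h1 : φ (B.det • x) = 1 := by
    have h2 : B.det • x = B.mulVec (B.adjugate.mulVec x) := by
      rw [Matrix.mulVec_mulVec, Matrix.mul_adjugate, Matrix.smul_mulVec, Matrix.one_mulVec]
    rw [h2]
    exact hker _
  rw [Matrix.eval_charpoly]
  rw [hz] at h1
  have h4 : f (Multiplicative.ofAdd x) ^ B.det = 1 := Units.ext (by
    rw [Units.val_zpow_eq_zpow_val, hf, h1, Units.val_one])
  -- the order of `φ x` is `s`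
  have h3 : orderOf (f (Multiplicative.ofAdd x)) = s := orderOf_eq_prime
    (Units.ext (by rw [Units.val_pow_eq_pow_val, hf, hφs, Units.val_one]))
    (fun h => hx (by rw [← hf, h, Units.val_one]))
  rw [← h3]
  exact orderOf_dvd_iff_zpow_eq_one.2 h4

end Cfsg.Agent.H473.Ab.Cyclo
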